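import Mathlib
import Groth.Prelude.Def_W4bk4hartshdef114Obs

universe u

open scoped TensorProduct

namespace Groth.Agent.DeformSqZero

theorem map_ne_top_of_ker_le {R S : Type*} [CommRing R] [CommRing S] {f : R →+* S}
    (hf : Function.Surjective f) {L : Ideal R} (hk : RingHom.ker f ≤ L) (hL : L ≠ ⊤) : L.map f ≠ ⊤ := by
  intro h
  have := Ideal.comap_map_of_surjective f hf L
  rw [h, Ideal.comap_top, ← RingHom.ker_eq_comap_bot, sup_eq_left.2 hk] at this
  exact hL this.symm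

/-- An ideal in the square of the maximal ideal of a Noetherian local algebra is generated by at most
as many elements as the dimension of an obstruction space of the quotient. -/
theorem exists_generators_of_obsTheory (k : Type u) [Field k] (P : Type u) [CommRing P]
    [IsLocalRing P] [IsNoetherianRing P] [Algebra k P]
    (hres : Function.Surjective (algebraMap k (IsLocalRing.ResidueField P)))
    (I : Ideal P) (hI : I ≤ IsLocalRing.maximalIdeal P ^ 2)
    (V : Type u) [AddCommGroup V] [Module k V] [Module.Finite k V]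
    (T : W4bk4hartshdef114.ObsTheory k (P ⧸ I) V) :
    ∃ s : Finset P, Ideal.span (s : Set P) = I ∧ s.card ≤ Module.finrank k V := by
  classical
  let m := IsLocalRing.maximalIdeal P
  have hIm : I ≤ m := hI.trans (Ideal.pow_le_self two_ne_zero)
  obtain ⟨n₀, hn₀⟩ := Ideal.exists_pow_inf_eq_pow_smul m I
  let n := n₀ + 1
  have hAR : m ^ n ⊓ I ≤ m * I := by
    have := hn₀ n (Nat.le_succ _)
    simp only [smul_eq_mul, Ideal.mul_top, n, Nat.add_sub_cancel_left, pow_one] at this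
    rw [this]
    exact Ideal.mul_mono le_rfl inf_le_right
  let Q : Ideal P := m * I ⊔ m ^ n
  have hQm : Q ≤ m := sup_le Ideal.mul_le_left (Ideal.pow_le_self (Nat.succ_ne_zero _))
  let J : Ideal (P ⧸ Q) := I.map (Ideal.Quotient.mk Q)
  haveI : Nontrivial (P ⧸ Q) := Ideal.Quotient.nontrivial_iff.2
    (ne_top_of_le_ne_top (IsLocalRing.maximalIdeal.isMaximal P).ne_top hQm)
  haveI hloc : IsLocalRing (P ⧸ Q) :=
    IsLocalRing.of_surjective' (Ideal.Quotient.mk Q) Ideal.Quotient.mk_surjective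
  have hnu : ∀ x : P, Ideal.Quotient.mk Q x ∈ nonunits (P ⧸ Q) → x ∈ m := fun x hx =>
    fun h => hx (h.map (Ideal.Quotient.mk Q))
  have hart : IsArtinianRing (P ⧸ Q) := by
    rw [isArtinianRing_iff_isNilpotent_maximalIdeal]
    refine ⟨n, ?_⟩
    have h1 : IsLocalRing.maximalIdeal (P ⧸ Q) ≤ m.map (Ideal.Quotient.mk Q) := fun x hx => by
      obtain ⟨x, rfl⟩ := Ideal.Quotient.mk_surjective x
      exact Ideal.mem_map_of_mem _ (hnu x hx)
    refine le_bot_iff.1 ((Ideal.pow_right_mono h1 n).trans ?_)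
    rw [← Ideal.map_pow]
    exact ((Ideal.map_eq_bot_iff_le_ker _).2 (by rw [Ideal.mk_ker]; exact le_sup_right)).le
  have hext : W4bk4hartshdef114.IsSmallExt k (P ⧸ Q) J := by
    refine ⟨hloc, hart, fun x => ?_, fun x j hx hj => ?_, fun htop => ?_⟩
    · obtain ⟨x, rfl⟩ := Ideal.Quotient.mk_surjective x
      obtain ⟨c, hc⟩ := hres (IsLocalRing.residue P x)
      refine ⟨c, ?_⟩
      have hx : x - algebraMap k P c ∈ m := by
        rw [← IsLocalRing.residue_eq_zero_iff, map_sub, sub_eq_zero, ← hc]; rfl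
      intro hu
      rw [show algebraMap k (P ⧸ Q) c = Ideal.Quotient.mk Q (algebraMap k P c) from rfl, ← map_sub] at hu
      have hmem : Ideal.Quotient.mk Q (x - algebraMap k P c) ∈ m.map (Ideal.Quotient.mk Q) :=
        Ideal.mem_map_of_mem _ hx
      exact map_ne_top_of_ker_le Ideal.Quotient.mk_surjective (by rwa [Ideal.mk_ker])
        (IsLocalRing.maximalIdeal.isMaximal P).ne_top (Ideal.eq_top_of_isUnit_mem _ hmem hu)
    · obtain ⟨x, rfl⟩ := Ideal.Quotient.mk_surjective x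
      obtain ⟨i, hi, rfl⟩ := (Ideal.mem_map_iff_of_surjective _ Ideal.Quotient.mk_surjective).1 hj
      rw [← map_mul, Ideal.Quotient.eq_zero_iff_mem]
      exact Ideal.mem_sup_left (Ideal.mul_mem_mul (hnu x hx) hi)
    · exact map_ne_top_of_ker_le (f := Ideal.Quotient.mk Q) Ideal.Quotient.mk_surjective
        (by rwa [Ideal.mk_ker]) (IsLocalRing.maximalIdeal.isMaximal P).ne_top
        (top_le_iff.1 (htop ▸ Ideal.map_mono hIm))
  let u : (P ⧸ I) →ₐ[k] (P ⧸ Q) ⧸ J :=
    Ideal.Quotient.liftₐ I ((Ideal.Quotient.mkₐ k J).comp (Ideal.Quotient.mkₐ k Q)) fun a ha =>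
      Ideal.Quotient.eq_zero_iff_mem.2 (Ideal.mem_map_of_mem _ ha)
  let b := Module.finBasis k V
  obtain ⟨c, hc⟩ : ∃ c : Fin (Module.finrank k V) →₀ ↥J, (c.sum fun i j => b i ⊗ₜ[k] j) = T.obs _ J u :=
    TensorProduct.eq_repr_basis_left b _
  have hlift : ∀ j : J, ∃ a ∈ I, Ideal.Quotient.mk Q a = (j : P ⧸ Q) := fun j =>
    (Ideal.mem_map_iff_of_surjective _ Ideal.Quotient.mk_surjective).1 j.2
  choose a ha hamk using hlift
  let s : Finset P := c.support.image fun i => a (c i)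
  have hs : Ideal.span (s : Set P) ≤ I := Ideal.span_le.2 fun x hx => by
    obtain ⟨i, -, rfl⟩ := Finset.mem_image.1 hx
    exact ha _
  let K : Ideal (P ⧸ Q) := (Ideal.span (s : Set P)).map (Ideal.Quotient.mk Q)
  have hKJ : K ≤ J := Ideal.map_mono hs
  have hzero : LinearMap.lTensor V (W4bk4hartshdef114.idealToQuot k J K) (T.obs _ J u) = 0 := by
    rw [← hc, Finsupp.sum, map_sum]
    refine Finset.sum_eq_zero fun i hi => ?_
    have : W4bk4hartshdef114.idealToQuot k J K (c i) = 0 := by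
      refine Subtype.ext (Ideal.Quotient.eq_zero_iff_mem.2 ?_)
      rw [← hamk (c i)]
      exact Ideal.mem_map_of_mem _ (Ideal.subset_span (Finset.mem_image_of_mem _ hi))
    rw [LinearMap.lTensor_tmul, this, TensorProduct.tmul_zero]
  rw [← T.obs_quot _ J K hext hKJ u] at hzero
  let J' : Ideal ((P ⧸ Q) ⧸ K) := J.map (Ideal.Quotient.mkₐ k K)
  have hnu' : ∀ x : P ⧸ Q, Ideal.Quotient.mk K x ∈ nonunits ((P ⧸ Q) ⧸ K) → x ∈ nonunits (P ⧸ Q) :=
    fun x hx h => hx (h.map (Ideal.Quotient.mk K))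
  have hann : ∀ x ∈ m, ∀ j ∈ J', Ideal.Quotient.mk K (Ideal.Quotient.mk Q x) * j = 0 := by
    intro x hx j hj
    obtain ⟨j₁, hj₁, rfl⟩ := (Ideal.mem_map_iff_of_surjective _ (Ideal.Quotient.mkₐ_surjective k K)).1 hj
    obtain ⟨i, hi, rfl⟩ := (Ideal.mem_map_iff_of_surjective _ Ideal.Quotient.mk_surjective).1 hj₁
    rw [Ideal.Quotient.mkₐ_eq_mk, ← map_mul, ← map_mul,
      Ideal.Quotient.eq_zero_iff_mem.2 (Ideal.mem_sup_left (Ideal.mul_mem_mul hx hi) : x * i ∈ Q), map_zero]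
  have hKtop : K ≠ ⊤ := fun h => hext.2.2.2.2 (top_le_iff.1 (h ▸ hKJ))
  haveI : Nontrivial ((P ⧸ Q) ⧸ K) := Ideal.Quotient.nontrivial_iff.2 hKtop
  have hext' : W4bk4hartshdef114.IsSmallExt k ((P ⧸ Q) ⧸ K) J' := by
    refine ⟨IsLocalRing.of_surjective' (Ideal.Quotient.mk K) Ideal.Quotient.mk_surjective,
      (haveI := hart; inferInstance), fun x => ?_, fun x j hx hj => ?_, fun htop => ?_⟩
    · obtain ⟨x, rfl⟩ := Ideal.Quotient.mk_surjective x
      obtain ⟨c, hc⟩ := hext.2.2.1 x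
      refine ⟨c, fun hu => ?_⟩
      rw [show algebraMap k ((P ⧸ Q) ⧸ K) c = Ideal.Quotient.mk K (algebraMap k (P ⧸ Q) c) from rfl,
        ← map_sub] at hu
      have hmem : Ideal.Quotient.mk K (x - algebraMap k (P ⧸ Q) c) ∈
          (IsLocalRing.maximalIdeal (P ⧸ Q)).map (Ideal.Quotient.mk K) := Ideal.mem_map_of_mem _ hc
      exact map_ne_top_of_ker_le Ideal.Quotient.mk_surjective
        (by rw [Ideal.mk_ker]; exact IsLocalRing.le_maximalIdeal hKtop)
        (IsLocalRing.maximalIdeal.isMaximal (P ⧸ Q)).ne_top (Ideal.eq_top_of_isUnit_mem _ hmem hu)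
    · obtain ⟨x, rfl⟩ := Ideal.Quotient.mk_surjective x
      obtain ⟨x, rfl⟩ := Ideal.Quotient.mk_surjective x
      exact hann x (hnu x (hnu' _ hx)) j hj
    · exact map_ne_top_of_ker_le (f := Ideal.Quotient.mk K) Ideal.Quotient.mk_surjective
        (by rwa [Ideal.mk_ker]) hext.2.2.2.2 htop
  obtain ⟨v, hv⟩ := (T.obs_eq_zero_iff _ J' hext' _).1 hzero
  let π : P →ₐ[k] (P ⧸ Q) ⧸ K := (Ideal.Quotient.mkₐ k K).comp (Ideal.Quotient.mkₐ k Q)
  let w : P →ₐ[k] (P ⧸ Q) ⧸ K := v.comp (Ideal.Quotient.mkₐ k I)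
  have hdiff : ∀ x, w x - π x ∈ J' := fun x =>
    (Ideal.Quotient.mk_eq_mk_iff_sub_mem _ _).1 (DFunLike.congr_fun hv (Ideal.Quotient.mk I x))
  have heq : ∀ x ∈ m ^ 2, w x = π x := by
    intro x hx
    rw [pow_two] at hx
    refine Submodule.mul_induction_on hx (fun y hy z hz => ?_) fun y z hy hz => by rw [map_add, map_add, hy, hz]
    have hyz : w z - π z ∈ J' := hdiff z
    have hyy : π y * (w z - π z) = 0 := hann y hy _ hyz
    have hzz : π z * (w y - π y) = 0 := hann z hz _ (hdiff y)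
    have hjm : J' ≤ (IsLocalRing.maximalIdeal P).map π := by
      refine le_trans (le_of_eq ?_) (Ideal.map_mono hIm)
      exact Ideal.map_map _ _
    obtain ⟨y', hy', hy''⟩ := (Ideal.mem_map_iff_of_surjective π
      ((Ideal.Quotient.mkₐ_surjective k K).comp (Ideal.Quotient.mkₐ_surjective k Q))).1 (hjm (hdiff y))
    have hjj : (w y - π y) * (w z - π z) = 0 := by rw [← hy'']; exact hann y' hy' _ hyz
    rw [map_mul, map_mul]
    linear_combination hyy + hzz + hjj
  refine ⟨s, le_antisymm hs ?_, Finset.card_image_le.trans ((Finset.card_le_univ _).trans (Fintype.card_fin _).le)⟩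
  refine Submodule.le_of_le_smul_of_le_jacobson_bot (IsNoetherian.noetherian I)
    (IsLocalRing.maximalIdeal_le_jacobson ⊥) fun x hx => ?_
  have h0 : π x = 0 := by
    rw [← heq x (hI hx)]
    show v (Ideal.Quotient.mk I x) = 0
    rw [Ideal.Quotient.eq_zero_iff_mem.2 hx, map_zero]
  obtain ⟨y, hy, hyx⟩ := (Ideal.mem_map_iff_of_surjective _ Ideal.Quotient.mk_surjective).1
    (Ideal.Quotient.eq_zero_iff_mem.1 h0)
  have hxy : x - y ∈ Q := (Ideal.Quotient.mk_eq_mk_iff_sub_mem _ _).1 hyx.symm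
  obtain ⟨p, hp, q, hq, hpq⟩ := Submodule.mem_sup.1 hxy
  have hqI : q ∈ I := by
    rw [show q = x - y - p by rw [← hpq]; ring]
    exact sub_mem (sub_mem hx (hs hy)) (Ideal.mul_le_right hp)
  refine Submodule.mem_sup.2 ⟨y, hy, p + q, add_mem hp (hAR ⟨hq, hqI⟩), ?_⟩
  rw [hpq]; ring

end Groth.Agent.DeformSqZero
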