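import Mathlib

universe u

namespace Groth.Agent.DeformSqZero

variable {A : Type*} [CommRing A] {B : Type*} [CommRing B] [Algebra A B]

/-- An algebra endomorphism congruent to the identity modulo a square-zero element of the base
is bijective. -/
theorem bijective_of_sub_mem_span (t : A) (ht2 : t * t = 0) (g : B →ₐ[A] B)
    (hg : ∀ b, g b - b ∈ Ideal.span {algebraMap A B t}) : Function.Bijective g := by
  have hT2 : algebraMap A B t * algebraMap A B t = 0 := by rw [← map_mul, ht2, map_zero]
  have hfix : ∀ c, g (algebraMap A B t * c) = algebraMap A B t * c := fun c => by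
    obtain ⟨e, he⟩ := Ideal.mem_span_singleton.1 (hg c)
    rw [map_mul, g.commutes, show g c = c + algebraMap A B t * e by rw [← he]; ring, mul_add,
      ← mul_assoc, hT2, zero_mul, add_zero]
  constructor
  · refine (injective_iff_map_eq_zero g).2 fun b hb => ?_
    obtain ⟨c, hc⟩ := Ideal.mem_span_singleton.1 (hg b)
    rw [hb, zero_sub] at hc
    have hb' : b = algebraMap A B t * -c := by rw [mul_neg, ← hc, neg_neg]
    rw [hb', hfix] at hb
    rw [hb', hb]
  · intro y
    obtain ⟨c, hc⟩ := Ideal.mem_span_singleton.1 (hg y)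
    exact ⟨y - algebraMap A B t * c, by rw [map_sub, hfix, ← hc]; ring⟩

variable [IsLocalRing A]

theorem mul_eq_zero_of_mem_map (t : A) (htm : ∀ a ∈ IsLocalRing.maximalIdeal A, a * t = 0)
    {x : B} (hx : x ∈ (IsLocalRing.maximalIdeal A).map (algebraMap A B)) :
    algebraMap A B t * x = 0 := by
  exact (Ideal.map_le_iff_le_comap (K := Submodule.comap (LinearMap.mulLeft B (algebraMap A B t)) ⊥)).2
    (fun a ha => show algebraMap A B t * algebraMap A B a = 0 by
      rw [← map_mul, mul_comm, htm a ha, map_zero]) hx

open TensorProduct in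
/-- For a flat algebra, the annihilator of a nonzero socle element is the extended maximal ideal. -/
theorem mul_eq_zero_iff [Module.Flat A B] (t : A) (ht0 : t ≠ 0)
    (htm : ∀ a ∈ IsLocalRing.maximalIdeal A, a * t = 0) (x : B) :
    algebraMap A B t * x = 0 ↔ x ∈ (IsLocalRing.maximalIdeal A).map (algebraMap A B) := by
  refine ⟨fun hx => ?_, mul_eq_zero_of_mem_map t htm⟩
  have hex : Function.Exact (IsLocalRing.maximalIdeal A).subtype (LinearMap.mulRight A t) := by
    intro a
    constructor
    · intro ha
      by_contra hcon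
      have hu : IsUnit a := by
        by_contra h
        exact hcon ⟨⟨a, h⟩, rfl⟩
      exact ht0 (hu.mul_right_eq_zero.1 ha)
    · rintro ⟨⟨a, ha⟩, rfl⟩
      exact htm a ha
  have h0 : (LinearMap.mulRight A t).lTensor B (x ⊗ₜ[A] (1 : A)) = 0 := by
    apply (TensorProduct.rid A B).injective
    simpa [Algebra.smul_def] using hx
  obtain ⟨y, hy⟩ := ((Module.Flat.lTensor_exact B hex) _).1 h0
  have key : ∀ y, TensorProduct.rid A B ((IsLocalRing.maximalIdeal A).subtype.lTensor B y) ∈
      (IsLocalRing.maximalIdeal A).map (algebraMap A B) := fun y => by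
    induction y using TensorProduct.induction_on with
    | zero => simp
    | tmul b a =>
      simpa [Algebra.smul_def] using Ideal.mul_mem_right b _ (Ideal.mem_map_of_mem (algebraMap A B) a.2)
    | add y z hy hz => rw [map_add, map_add]; exact Ideal.add_mem _ hy hz
  have hk := key y
  rw [hy] at hk
  simpa using hk

end Groth.Agent.DeformSqZero
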