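import Groth.Agent.FlatCrit.Tor
import Mathlib.LinearAlgebra.TensorProduct.RightExactness
import Mathlib.RingTheory.Flat.Basic
import Mathlib.Tactic

/-!
# Flat lifts of an ideal along a square-zero extension
-/

universe u

open TensorProduct

namespace Groth.Agent.DeformSqZero

set_option synthInstance.maxHeartbeats 100000

variable {A : Type u} [CommRing A] (J : Ideal A) (B : Type u) [CommRing B] [Algebra A B]

/-- The image of multiplication `B ⊗ J → B`. -/
noncomputable def mulMap : B ⊗[A] ↥J →ₗ[B] B :=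
  (TensorProduct.AlgebraTensorModule.rid A B B).toLinearMap ∘ₗ
    TensorProduct.AlgebraTensorModule.lTensor B B (Submodule.subtype J)

theorem mulMap_eq (z : B ⊗[A] ↥J) :
    mulMap J B z = TensorProduct.rid A B (LinearMap.lTensor B (Submodule.subtype J) z) := rfl

theorem mulMap_tmul (b : B) (j : J) : mulMap J B (b ⊗ₜ j) = algebraMap A B j * b := by
  rw [mulMap_eq, LinearMap.lTensor_tmul, TensorProduct.rid_tmul, Algebra.smul_def]; rfl

theorem mulMap_injective [Module.Flat A B] : Function.Injective (mulMap J B) := by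
  intro x y h
  rw [mulMap_eq, mulMap_eq] at h
  exact Module.Flat.lTensor_preserves_injective_linearMap _ Subtype.val_injective ((TensorProduct.rid A B).injective h)

theorem range_mulMap (y : B) (hy : y ∈ J.map (algebraMap A B)) : ∃ z, mulMap J B z = y := by
  refine Submodule.span_induction (p := fun y _ => ∃ z, mulMap J B z = y) ?_ ⟨0, map_zero _⟩ ?_ ?_ hy
  · rintro _ ⟨c, hc, rfl⟩; exact ⟨1 ⊗ₜ ⟨c, hc⟩, by rw [mulMap_tmul, mul_one]⟩
  · rintro a b _ _ ⟨u, rfl⟩ ⟨v, rfl⟩; exact ⟨u + v, map_add _ _ _⟩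
  · rintro r a _ ⟨u, rfl⟩; exact ⟨r • u, map_smul _ _ _⟩

theorem mulMap_mem (z : B ⊗[A] ↥J) : mulMap J B z ∈ J.map (algebraMap A B) := by
  induction z using TensorProduct.induction_on with
  | zero => simp
  | add a b ha hb => rw [map_add]; exact add_mem ha hb
  | tmul b j => rw [mulMap_tmul]; exact Ideal.mul_mem_right _ _ (Ideal.mem_map_of_mem _ j.2)

variable {J B} (I : Ideal (B ⧸ J.map (algebraMap A B)))

/-- The map `B ⊗ J → (B/JB)/I ⊗ J`. -/
noncomputable def proj : B ⊗[A] ↥J →ₗ[B] ((B ⧸ J.map (algebraMap A B)) ⧸ I) ⊗[A] ↥J :=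
  TensorProduct.AlgebraTensorModule.rTensor A J
    (IsScalarTower.toAlgHom B B ((B ⧸ J.map (algebraMap A B)) ⧸ I)).toLinearMap

theorem proj_eq (z : B ⊗[A] ↥J) : proj I z =
    LinearMap.rTensor ↥J (IsScalarTower.toAlgHom A B ((B ⧸ J.map (algebraMap A B)) ⧸ I)).toLinearMap z := by
  induction z using TensorProduct.induction_on with
  | zero => simp
  | add a b ha hb => simp [ha, hb]
  | tmul b j => rfl

theorem mk_mulMap (z : B ⊗[A] ↥J) : Ideal.Quotient.mk (J.map (algebraMap A B)) (mulMap J B z) = 0 :=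
  Ideal.Quotient.eq_zero_iff_mem.2 (mulMap_mem J B z)

variable {L : Ideal B} (hL : L.map (Ideal.Quotient.mk (J.map (algebraMap A B))) = I)

include hL in
theorem le_comap : L ≤ RingHom.ker ((Ideal.Quotient.mk I).comp (Ideal.Quotient.mk (J.map (algebraMap A B)))) := by
  intro y hy
  rw [RingHom.mem_ker, RingHom.comp_apply, Ideal.Quotient.eq_zero_iff_mem, ← hL]
  exact Ideal.mem_map_of_mem _ hy

/-- The projection `B/L → (B/JB)/I`. -/
noncomputable def quotMap : (B ⧸ L) →ₗ[A] ((B ⧸ J.map (algebraMap A B)) ⧸ I) :=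
  (Ideal.Quotient.liftₐ L (IsScalarTower.toAlgHom A B ((B ⧸ J.map (algebraMap A B)) ⧸ I))
    (fun y hy => le_comap I hL hy)).toLinearMap

theorem quotMap_mk (y : B) : quotMap I hL (Ideal.Quotient.mk L y) =
    IsScalarTower.toAlgHom A B ((B ⧸ J.map (algebraMap A B)) ⧸ I) y := rfl

theorem quotMap_surjective : Function.Surjective (quotMap I hL) := fun x => by
  obtain ⟨x, rfl⟩ := Ideal.Quotient.mk_surjective x
  obtain ⟨y, rfl⟩ := Ideal.Quotient.mk_surjective x
  exact ⟨Ideal.Quotient.mk L y, rfl⟩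

theorem lTensor_quotMap_injective {N : Type u} [AddCommGroup N] [Module A N]
    (hN : ∀ r ∈ J, ∀ b : N, r • b = 0) : Function.Injective ((quotMap I hL).lTensor N) := by
  rw [injective_iff_map_eq_zero]
  intro z hz
  obtain ⟨w, rfl⟩ := (lTensor_exact N (LinearMap.exact_subtype_ker_map (quotMap I hL)) (quotMap_surjective I hL) z).1 hz
  clear hz
  induction w using TensorProduct.induction_on with
  | zero => simp
  | add a b ha hb => rw [map_add, ha, hb, add_zero]
  | tmul b k =>
    obtain ⟨k, hk⟩ := k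
    obtain ⟨y, rfl⟩ := Ideal.Quotient.mk_surjective k
    rw [LinearMap.lTensor_tmul]
    change b ⊗ₜ[A] Ideal.Quotient.mk L y = 0
    rw [LinearMap.mem_ker, quotMap_mk] at hk
    have hy : Ideal.Quotient.mk (J.map (algebraMap A B)) y ∈ L.map (Ideal.Quotient.mk (J.map (algebraMap A B))) := by
      rw [hL, ← Ideal.Quotient.eq_zero_iff_mem]; exact hk
    obtain ⟨y', hy', hyy⟩ := (Ideal.mem_map_iff_of_surjective _ Ideal.Quotient.mk_surjective).1 hy
    obtain ⟨u, hu⟩ := range_mulMap J B (y - y') (Ideal.Quotient.eq.1 hyy.symm)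
    rw [show Ideal.Quotient.mk L y = Ideal.Quotient.mk L (mulMap J B u) by
      rw [hu, map_sub, Ideal.Quotient.eq_zero_iff_mem.2 hy', sub_zero]]
    clear hu
    induction u using TensorProduct.induction_on with
    | zero => simp
    | add a c ha hc => rw [map_add, map_add, tmul_add, ha, hc, add_zero]
    | tmul c j =>
      rw [mulMap_tmul, ← Algebra.smul_def, ← Ideal.Quotient.mkₐ_eq_mk A, map_smul, tmul_smul, smul_tmul', hN _ j.2, zero_tmul]

theorem rTensor_quotMap_injective (hJ : J * J = ⊥) :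
    Function.Injective ((quotMap I hL).rTensor ↥J) := by
  have h := lTensor_quotMap_injective I hL (N := ↥J) fun r hr b => Subtype.ext (by
    have h2 := Ideal.mul_mem_mul hr b.2; rw [hJ] at h2; exact h2)
  intro x y hxy
  have e : ∀ z, (quotMap I hL).lTensor ↥J (TensorProduct.comm A _ _ z) = TensorProduct.comm A _ _ ((quotMap I hL).rTensor ↥J z) := by
    intro z
    induction z using TensorProduct.induction_on with
    | zero => simp
    | add a b ha hb => simp [ha, hb]
    | tmul a b => simp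
  exact (TensorProduct.comm A (B ⧸ L) ↥J).injective (h (by rw [e, e, hxy]))

include hL in
theorem proj_eq_zero_iff (hJ : J * J = ⊥) (z : B ⊗[A] ↥J) :
    proj I z = 0 ↔ LinearMap.rTensor ↥J (Ideal.Quotient.mkₐ A L).toLinearMap z = 0 := by
  have e : proj I z = (quotMap I hL).rTensor ↥J (LinearMap.rTensor ↥J (Ideal.Quotient.mkₐ A L).toLinearMap z) := by
    rw [← LinearMap.comp_apply, ← LinearMap.rTensor_comp, proj_eq]; rfl
  rw [e, ← map_zero ((quotMap I hL).rTensor ↥J), (rTensor_quotMap_injective I hL hJ).eq_iff]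

theorem mk_mulMap_eq (L : Ideal B) (z : B ⊗[A] ↥J) :
    TensorProduct.rid A (B ⧸ L) (LinearMap.lTensor (B ⧸ L) (Submodule.subtype J)
      (LinearMap.rTensor ↥J (Ideal.Quotient.mkₐ A L).toLinearMap z)) = Ideal.Quotient.mk L (mulMap J B z) := by
  induction z using TensorProduct.induction_on with
  | zero => simp
  | add a b ha hb => simp [ha, hb]
  | tmul b j => simp [mulMap_tmul, Algebra.smul_def]

include hL in
/-- If `B/L` is flat, a multiple in `L` projects to zero. -/
theorem proj_eq_zero_of_mem (hJ : J * J = ⊥) [Module.Flat A (B ⧸ L)] {z : B ⊗[A] ↥J} (hz : mulMap J B z ∈ L) :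
    proj I z = 0 := by
  rw [proj_eq_zero_iff I hL hJ]
  refine Module.Flat.lTensor_preserves_injective_linearMap (M := B ⧸ L) _ (Submodule.injective_subtype J) ?_
  apply (TensorProduct.rid A (B ⧸ L)).injective
  rw [mk_mulMap_eq, map_zero, map_zero, Ideal.Quotient.eq_zero_iff_mem.2 hz]

include hL in
theorem mem_of_proj_eq_zero (hJ : J * J = ⊥) {z : B ⊗[A] ↥J} (hz : proj I z = 0) : mulMap J B z ∈ L := by
  rw [← Ideal.Quotient.eq_zero_iff_mem, ← mk_mulMap_eq, (proj_eq_zero_iff I hL hJ z).1 hz, map_zero, map_zero]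

theorem proj_surjective : Function.Surjective (proj (A := A) I) := fun w => by
  obtain ⟨z, hz⟩ := LinearMap.rTensor_surjective ↥J (fun x => by
    obtain ⟨x, rfl⟩ := Ideal.Quotient.mk_surjective x
    obtain ⟨y, rfl⟩ := Ideal.Quotient.mk_surjective x
    exact ⟨y, rfl⟩ : Function.Surjective (IsScalarTower.toAlgHom A B ((B ⧸ J.map (algebraMap A B)) ⧸ I)).toLinearMap) w
  exact ⟨z, (proj_eq I z).trans hz⟩

include hL in
theorem exists_lift {x : B ⧸ J.map (algebraMap A B)} (hx : x ∈ I) :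
    ∃ y ∈ L, Ideal.Quotient.mk (J.map (algebraMap A B)) y = x :=
  (Ideal.mem_map_iff_of_surjective _ Ideal.Quotient.mk_surjective).1 (hL ▸ hx)

variable (φ : ↥I →ₗ[B] (((B ⧸ J.map (algebraMap A B)) ⧸ I) ⊗[A] ↥J)) (I' : Ideal B)

/-- The translate of `I'` by `φ`. -/
def translate : Ideal B where
  carrier := {y | ∃ x ∈ I', ∃ (z : B ⊗[A] ↥J) (h : Ideal.Quotient.mk (J.map (algebraMap A B)) x ∈ I),
    mulMap J B z = y - x ∧ proj I z = φ ⟨_, h⟩}
  zero_mem' := ⟨0, I'.zero_mem, 0, by simp, by simp, by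
    rw [map_zero]; exact ((congrArg φ (Subtype.ext (map_zero _) : (⟨_, _⟩ : ↥I) = 0)).trans (map_zero φ)).symm⟩
  add_mem' := by
    rintro a b ⟨x, hx, z, h, hz, hz'⟩ ⟨x₂, hx₂, z₂, h₂, hz₂, hz₂'⟩
    refine ⟨x + x₂, I'.add_mem hx hx₂, z + z₂, by rw [map_add]; exact I.add_mem h h₂, by rw [map_add, hz, hz₂]; ring, ?_⟩
    rw [map_add, hz', hz₂', ← map_add]
    congr 1
  smul_mem' := by
    rintro c a ⟨x, hx, z, h, hz, hz'⟩
    refine ⟨c * x, I'.mul_mem_left c hx, c • z, by rw [map_mul]; exact I.mul_mem_left _ h, by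
      rw [map_smul, hz, smul_eq_mul, smul_eq_mul]; ring, ?_⟩
    rw [map_smul, hz', ← map_smul]
    congr 1

end Groth.Agent.DeformSqZero
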